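import Cfsg.Agent.H199.AbMon
import Cfsg.Agent.CTwoTab.BInst
import Cfsg.Agent.CoThreeStd.InvTwo
import Cfsg.Agent.H606.PQR.Pieces

/-!
# S3988: an element of order 11 of the Baby Monster with a small centralizer (helper680, task 3773)

* `card_cent_le` : `C → M12` onto with kernel of order 11: the centralizers of involutions have order at most `2640`.
* `eleven_pair` : in the Monster, `y` of order 11 and a commuting involution `t`: `|C(y) ∩ C(t)| ≤ 2640`.
* `piece_B11`.
-/

set_option autoImplicit false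
set_option maxRecDepth 100000

namespace Cfsg.Agent.H680.PQR

open Subgroup
open Cfsg Cfsg.Agent.MonsterX Cfsg.Agent.MonsterX.InstData Cfsg.Agent.MonsterX.MainPack Cfsg.Agent.MonsterU
open Cfsg.Agent.MonsterP Cfsg.Agent.MonsterN Cfsg.Agent.LThreeMB
open Cfsg.Agent.MonsterX.MainBasic Cfsg.Agent.MonsterX.MainSimple Cfsg.Agent.MonsterX.Model
open Cfsg.Agent.MonsterU.Lam2 Cfsg.Agent.MonsterU.TwoCls
open Cfsg.Agent.BpSpor.MBigModel Cfsg.Agent.H199.NSmMon Cfsg.Agent.MonsterN.LitInst

theorem card_comap {G K : Type*} [Group G] [Finite G] [Group K] {f : G →* K} (hf : Function.Surjective f)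
    (H : Subgroup K) : Nat.card ↥(H.comap f) = Nat.card ↥H * Nat.card ↥f.ker := by
  have hK : Finite K := Finite.of_surjective f hf
  have h1 := (H.comap f).index_mul_card
  have h2 := H.index_mul_card
  have h3 := f.ker.card_mul_index
  rw [Subgroup.index_ker, MonoidHom.range_eq_top.2 hf, Nat.card_congr Subgroup.topEquiv.toEquiv] at h3
  rw [Subgroup.index_comap_of_surjective H hf] at h1
  have h4 : 0 < H.index := Nat.pos_of_ne_zero H.index_ne_zero_of_finite
  apply Nat.eq_of_mul_eq_mul_left h4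
  rw [h1, ← h3, ← h2]
  ring

theorem card_conj {G : Type*} [Group G] (x g : G) :
    Nat.card (centralizer ({g * x * g⁻¹} : Set G)) = Nat.card (centralizer ({x} : Set G)) := by
  refine Nat.card_congr
    { toFun := fun a => ⟨g⁻¹ * a * g, mem_centralizer_singleton_iff.2 ?_⟩
      invFun := fun a => ⟨g * a * g⁻¹, mem_centralizer_singleton_iff.2 ?_⟩
      left_inv := fun a => Subtype.ext (by show g * (g⁻¹ * (a : G) * g) * g⁻¹ = a; group)
      right_inv := fun a => Subtype.ext (by show g⁻¹ * (g * (a : G) * g⁻¹) * g = a; group) }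
  · have h := mem_centralizer_singleton_iff.1 a.2
    calc g⁻¹ * (a : G) * g * x = g⁻¹ * ((a : G) * (g * x * g⁻¹)) * g := by group
      _ = g⁻¹ * ((g * x * g⁻¹) * (a : G)) * g := by rw [h]
      _ = x * (g⁻¹ * (a : G) * g) := by group
  · have h := mem_centralizer_singleton_iff.1 a.2
    calc g * (a : G) * g⁻¹ * (g * x * g⁻¹) = g * ((a : G) * x) * g⁻¹ := by group
      _ = g * (x * (a : G)) * g⁻¹ := by rw [h]
      _ = g * x * g⁻¹ * (g * (a : G) * g⁻¹) := by group

/-- the centralizers of the involutions of `M12` -/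
theorem cent_m12 {x : Spor.M12} (hx : orderOf x = 2) : Nat.card (centralizer ({x} : Set Spor.M12)) ≤ 240 := by
  have h2 : x * x = 1 := by
    have := pow_orderOf_eq_one x
    rwa [hx, pow_two] at this
  have h1 : x ≠ 1 := by
    rintro rfl
    rw [orderOf_one] at hx
    omega
  rcases CoThreeStd.InvTwo.inv2.cases x h2 h1 with ⟨c, h⟩ | ⟨c, h⟩
  · have h3 := card_conj CoThreeStd.MTwelve.y c⁻¹
    rw [inv_inv, h] at h3
    rw [h3]
    exact CoThreeStd.MTwelve.card_cent_y.le
  · have h3 := card_conj (CoThreeStd.MTwelve.p * CoThreeStd.MTwelve.r) c⁻¹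
    rw [inv_inv, h] at h3
    rw [h3, CoThreeStd.MTwelve.card_cent_v]
    norm_num

/-- `C → M12` onto with kernel of order 11 -/
theorem card_cent_le {C : Type*} [Group C] [Finite C] (f : C →* Spor.M12) (hk : Nat.card ↥f.ker = 11) {t : C}
    (ht : orderOf t = 2) : Nat.card ↥(centralizer ({t} : Set C)) ≤ 2640 := by
  have hft : orderOf (f t) = 2 := by
    refine orderOf_eq_prime ?_ fun h1 => ?_
    · rw [← map_pow, ← ht, pow_orderOf_eq_one, map_one]
    · have h1' : t ∈ f.ker := h1
      have h2 : orderOf (⟨t, h1'⟩ : ↥f.ker) ∣ 11 := by rw [← hk]; exact orderOf_dvd_natCard _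
      rw [Subgroup.orderOf_mk, ht] at h2
      omega
  let g : ↥(centralizer ({t} : Set C)) →* ↥(centralizer ({f t} : Set Spor.M12)) :=
    (f.comp (centralizer ({t} : Set C)).subtype).codRestrict _ (fun x => by
      rw [mem_centralizer_singleton_iff]
      show f x * f t = f t * f x
      rw [← map_mul, ← map_mul, mem_centralizer_singleton_iff.1 x.2])
  have h1 : Nat.card ↥g.ker ≤ 11 := by
    rw [← hk]
    refine Nat.card_le_card_of_injective (fun x : ↥g.ker => (⟨((x : ↥(centralizer ({t} : Set C))) : C), ?_⟩ : ↥f.ker)) ?_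
    · exact congrArg Subtype.val x.2
    · intro x y hxy
      have h3 : ((x : ↥(centralizer ({t} : Set C))) : C) = ((y : ↥(centralizer ({t} : Set C))) : C) := by
        have h4 := congrArg (fun w : ↥f.ker => (w : C)) hxy
        exact h4
      exact Subtype.ext (Subtype.ext h3)
  have h2 := g.ker.card_mul_index
  rw [Subgroup.index_ker] at h2
  have h3 : Nat.card ↥g.range ≤ 240 := (Nat.card_le_card_of_injective _ (Subgroup.subtype_injective _)).trans (cent_m12 hft)
  rw [← h2]
  calc Nat.card ↥g.ker * Nat.card ↥g.range ≤ 11 * 240 := Nat.mul_le_mul h1 h3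
    _ = 2640 := by norm_num

/-- **In the Monster.** -/
theorem eleven_pair {y t : MG} (hy : orderOf y = 11) (ht : orderOf t = 2) (hc : t * y = y * t) :
    Nat.card ↥(centralizer ({y} : Set MG) ⊓ centralizer ({t} : Set MG) : Subgroup MG) ≤ 2640 := by
  have := finite
  have := simple
  obtain ⟨g, hg⟩ := BpSpor.MBigEleven.comm_z hy ht hc.symm
  have h1 : (g⁻¹ * y * g) * zz = zz * (g⁻¹ * y * g) := by
    calc (g⁻¹ * y * g) * zz = g⁻¹ * (y * (g * zz * g⁻¹)) * g := by group
      _ = g⁻¹ * ((g * zz * g⁻¹) * y) * g := by rw [hg]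
      _ = zz * (g⁻¹ * y * g) := by group
  let x' : ↥(centralizer ({zz} : Set MG)) := ⟨g⁻¹ * y * g, mem_centralizer_singleton_iff.2 h1⟩
  have hx' : orderOf x' = 11 := by
    have h2 : orderOf x' = orderOf (g⁻¹ * y * g) := Subgroup.orderOf_mk _ _
    rw [h2, ← hy]
    have := MulEquiv.orderOf_eq (MulAut.conj g⁻¹) y
    rwa [MulAut.conj_apply, inv_inv] at this
  obtain ⟨x₀, hx₀, hpx⟩ := H800.ME.Final.exists_x
  have hxo : orderOf (x₀ : MG) = 11 := by rw [Subgroup.orderOf_coe, hx₀]
  obtain ⟨e⟩ := H800.ME.Twelve.iso chart hx₀ hpx (H800.ME.Final.dvd_XX hxo)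
  obtain ⟨k, hk⟩ := CpAutON.Gen.conj_into (p := 11) (BpSpor.MBigModel.not_sq (Or.inl rfl) orderOf_zz) hx' hx₀
  have : Finite ↥(centralizer ({zz} : Set MG)) := inferInstance
  obtain ⟨i, hi⟩ := mem_powers_iff_mem_zpowers.2 hk
  obtain ⟨E⟩ := MFive.exists_cent_equiv (p := 11) (by norm_num) (x := y) (y := (x₀ : MG)) hy hxo
    (k := (k : MG) * g⁻¹) (i := i) (by
      have h3 : ((x₀ : MG)) ^ i = (k : MG) * (g⁻¹ * y * g) * (k : MG)⁻¹ := congrArg Subtype.val hi
      rw [h3]
      group)
  let f : ↥(centralizer ({y} : Set MG)) →* Spor.M12 :=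
    (e.toMonoidHom.comp (QuotientGroup.mk' (Zx (x₀ : MG)))).comp E.symm.toMonoidHom
  have hker : Nat.card ↥f.ker = 11 := by
    have h4 : (e.toMonoidHom.comp (QuotientGroup.mk' (Zx (x₀ : MG)))).ker = Zx (x₀ : MG) := by
      rw [← MonoidHom.comap_ker, (MonoidHom.ker_eq_bot_iff e.toMonoidHom).2 e.injective, MonoidHom.comap_bot,
        QuotientGroup.ker_mk']
    have h5 : f.ker = (Zx (x₀ : MG)).comap E.symm.toMonoidHom := by
      rw [← h4, MonoidHom.comap_ker]
    rw [h5]
    have h6 : Nat.card ↥((Zx (x₀ : MG)).comap E.symm.toMonoidHom) = Nat.card ↥(Zx (x₀ : MG)) := by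
      have h7 : E.symm.toMonoidHom.ker = ⊥ := (MonoidHom.ker_eq_bot_iff _).2 E.symm.injective
      rw [card_comap E.symm.surjective, show E.symm.toMonoidHom.ker = ⊥ from h7, Subgroup.card_bot, mul_one]
    rw [h6, Zx, Nat.card_zpowers, self, Subgroup.orderOf_mk, hxo]
  let t' : ↥(centralizer ({y} : Set MG)) := ⟨t, mem_centralizer_singleton_iff.2 hc⟩
  have ht' : orderOf t' = 2 := by
    rw [← ht]
    exact Subgroup.orderOf_mk _ _
  refine le_trans ?_ (card_cent_le f hker ht')
  refine Nat.card_le_card_of_injective (fun x : ↥(centralizer ({y} : Set MG) ⊓ centralizer ({t} : Set MG) : Subgroup MG) =>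
    (⟨⟨x, x.2.1⟩, mem_centralizer_singleton_iff.2 (Subtype.ext (mem_centralizer_singleton_iff.1 x.2.2))⟩ :
      ↥(centralizer ({t'} : Set ↥(centralizer ({y} : Set MG)))))) ?_
  intro x y hxy
  have h7 := congrArg Subtype.val (congrArg Subtype.val hxy)
  exact Subtype.ext h7

/-- double covers -/
theorem of_ext {H K G : Type*} [Group H] [Group K] [Group G] [Finite H] [Finite G] {q : H →* K} {τ : H}
    (hq : R01.Lifts.Ext q τ) {i : H →* G} (hi : Function.Injective i) (h11 : 11 ∣ Nat.card K)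
    (hG : ∀ y t : G, orderOf y = 11 → orderOf t = 2 → t * y = y * t →
      Nat.card ↥(centralizer ({y} : Set G) ⊓ centralizer ({t} : Set G) : Subgroup G) ≤ 2640) :
    ∃ y : K, orderOf y = 11 ∧ Nat.card (centralizer ({y} : Set K)) ≤ 1320 := by
  have hK : Finite K := Finite.of_surjective q hq.surj
  have : Fact (Nat.Prime 11) := ⟨by norm_num⟩
  obtain ⟨b, hb⟩ := exists_prime_orderOf_dvd_card' (G := K) 11 h11
  obtain ⟨c, hcb⟩ := hq.surj b
  have hb11 : b ^ 11 = 1 := by rw [← hb, pow_orderOf_eq_one]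
  have hτ2 : τ ^ 2 = 1 := by rw [pow_two]; exact hq.zz
  -- the lift of order 11
  have hd : q (c ^ 12) = b := by
    rw [map_pow, hcb, show 12 = 11 + 1 by norm_num, pow_succ, hb11, one_mul]
  have hd11 : (c ^ 12) ^ 11 = 1 := by
    have h1 : q (c ^ 11) = 1 := by rw [map_pow, hcb, hb11]
    have h2 : (c ^ 12) ^ 11 = (c ^ 11) ^ 12 := by rw [← pow_mul, ← pow_mul, mul_comm]
    rw [h2]
    rcases (hq.ker _).1 h1 with h3 | h3
    · rw [h3, one_pow]
    · rw [h3, show 12 = 2 * 6 by norm_num, pow_mul, hτ2, one_pow]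
  set d := c ^ 12 with hdd
  have hdo : orderOf d = 11 := by
    refine orderOf_eq_prime hd11 fun h1 => ?_
    rw [h1, map_one] at hd
    rw [← hd, orderOf_one] at hb
    omega
  refine ⟨b, hb, ?_⟩
  have hcomap : ∀ x ∈ (centralizer ({b} : Set K)).comap q, x * d = d * x := by
    intro x hx
    have h1 : q x * b = b * q x := mem_centralizer_singleton_iff.1 hx
    rw [← hd, ← map_mul, ← map_mul] at h1
    rcases hq.map_eq.1 h1 with h2 | h2
    · exact h2
    · exfalso
      have h3 : x * d * x⁻¹ = d * τ := by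
        rw [h2, mul_assoc, mul_assoc, ← hq.comm x⁻¹, mul_inv_cancel_left]
      have h4 : (x * d * x⁻¹) ^ 11 = 1 := by
        rw [conj_pow, hd11, mul_one, mul_inv_cancel]
      rw [h3, (show Commute d τ from hq.comm d).mul_pow, hd11, one_mul,
        show 11 = 2 * 5 + 1 by norm_num, pow_succ, pow_mul, hτ2, one_pow, one_mul] at h4
      exact hq.zne h4
  have hle : Nat.card ↥((centralizer ({b} : Set K)).comap q) ≤ 2640 := by
    have hD : orderOf (i d) = 11 := by
      rw [← hdo]
      exact orderOf_injective _ hi _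
    have hT : orderOf (i τ) = 2 := by
      have h1 : orderOf (i τ) = orderOf τ := orderOf_injective _ hi _
      rw [h1]
      exact orderOf_eq_prime hτ2 hq.zne
    refine le_trans ?_ (hG (i d) (i τ) hD hT (by rw [← map_mul, ← map_mul, hq.comm d]))
    refine Nat.card_le_card_of_injective (fun x : ↥((centralizer ({b} : Set K)).comap q) =>
      (⟨i x, ?_, ?_⟩ : ↥(centralizer ({i d} : Set G) ⊓ centralizer ({i τ} : Set G) : Subgroup G))) ?_
    · refine mem_centralizer_singleton_iff.2 ?_
      rw [← map_mul, ← map_mul, hcomap x x.2]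
    · refine mem_centralizer_singleton_iff.2 ?_
      rw [← map_mul, ← map_mul, hq.comm (x : H)]
    · intro x y hxy
      have h7 : i (x : H) = i (y : H) := congrArg Subtype.val hxy
      exact Subtype.ext (hi h7)
  have h2 : Nat.card ↥((centralizer ({b} : Set K)).comap q) = Nat.card ↥(centralizer ({b} : Set K)) * 2 := by
    have hkc : Nat.card ↥q.ker = 2 := by
      rw [Nat.card_eq_two_iff]
      refine ⟨1, ⟨τ, hq.mapz⟩, fun h1 => hq.zne (congrArg Subtype.val h1).symm, ?_⟩
      ext x
      simp only [Set.mem_insert_iff, Set.mem_singleton_iff, Set.mem_univ, iff_true]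
      rcases (hq.ker _).1 x.2 with h1 | h1
      · exact Or.inl (Subtype.ext h1)
      · exact Or.inr (Subtype.ext h1)
    rw [← hkc]
    exact card_comap hq.surj _
  omega

/-- **`PieceB11`.** -/
theorem piece_B11 : Cfsg.Agent.H606.PQR.PieceB11 := by
  refine CTwoTab.BInst.elim ?_
  intro K _ _ hK hF _ _ _ _ q y h π f₁ f₂ f₃ f₄ M₁' hq h10 DK Fc hz hcz hcd hL hc5 big hq5 hcard Bs' hr
  have hfM : Finite MG := finite
  have hB : Nat.card Spor.BabyMonster = 4154781481226426191177580544000000 := Cfsg.Agent.S1704.result.2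
  exact of_ext hq (i := Subgroup.subtype _) (Subgroup.subtype_injective _) (by rw [hB]; norm_num)
    (fun y t => eleven_pair)

end Cfsg.Agent.H680.PQR

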